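import Groth.Agent.H58.Conn.CdDim
import Groth.Agent.H58.ConnDimSpec
import Groth.Agent.H26.ComplQuot
import Groth.Agent.S0379

/-!
# Passing to quotients by primes; spectrum-level dimension lemmas
-/
set_option autoImplicit false
set_option linter.unusedSectionVars false
set_option linter.style.haveILetI false
universe u

namespace Groth.Agent.H58.Conn

open IsLocalRing PrimeSpectrum

section Quot
variable {R : Type u} [CommRing R] [IsNoetherianRing R]

theorem cdLE_map_mk (q f : Ideal R) (k : ℕ) (hk : LocCoh.CdLE R f k) :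
    LocCoh.CdLE (R ⧸ q) (f.map (Ideal.Quotient.mk q)) k := by
  have := (Groth.Agent.S0379.result R (R ⧸ q) f k).1 hk
  rwa [Ideal.Quotient.algebraMap_eq] at this

theorem dim_quot_map_mk (q f : Ideal R) :
    ringKrullDim ((R ⧸ q) ⧸ f.map (Ideal.Quotient.mk q)) = ringKrullDim (R ⧸ (q ⊔ f)) :=
  ringKrullDim_eq_of_ringEquiv (DoubleQuot.quotQuotEquivQuotSup q f)

theorem map_mk_ne_top (q f : Ideal R) (h : q ⊔ f ≠ ⊤) : f.map (Ideal.Quotient.mk q) ≠ ⊤ := by
  intro htop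
  haveI : Subsingleton ((R ⧸ q) ⧸ f.map (Ideal.Quotient.mk q)) :=
    Ideal.Quotient.subsingleton_iff.2 htop
  have : Subsingleton (R ⧸ (q ⊔ f)) := (DoubleQuot.quotQuotEquivQuotSup q f).symm.toEquiv.subsingleton
  exact h (Ideal.Quotient.subsingleton_iff.1 this)

variable [IsLocalRing R]

/-- for a prime `q`: `dim R/q ≤ cd f + dim R/(q + f)` -/
theorem dim_quot_prime_le (q : Ideal R) [q.IsPrime] (f : Ideal R) (hf : f ≠ ⊤) (k : ℕ)
    (hk : LocCoh.CdLE R f k) :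
    ringKrullDim (R ⧸ q) ≤ (k : WithBot ℕ∞) + ringKrullDim (R ⧸ (q ⊔ f)) := by
  haveI : IsLocalRing (R ⧸ q) :=
    IsLocalRing.of_surjective' (Ideal.Quotient.mk q) Ideal.Quotient.mk_surjective
  have hqf : q ⊔ f ≠ ⊤ := sup_ne_top' (Ideal.IsPrime.ne_top inferInstance) hf
  have := ringKrullDim_le_cd_add_dim_quot (R ⧸ q) (f.map (Ideal.Quotient.mk q))
    (map_mk_ne_top q f hqf) k (cdLE_map_mk q f k hk)
  rwa [dim_quot_map_mk] at this

/-- the bound in the quotient domain `R ⧸ p` -/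
theorem dim_quot_prime_le_of_inter [IsAdicComplete (maximalIdeal R) R] (p : Ideal R) [p.IsPrime]
    (a b : Ideal R) (ha : a ≠ ⊤) (hb : b ≠ ⊤) (δ : ℕ)
    (hδ : ringKrullDim (R ⧸ (a ⊔ b)) ≤ (δ : WithBot ℕ∞))
    (h1 : (δ : WithBot ℕ∞) < ringKrullDim (R ⧸ (a ⊔ p)))
    (h2 : (δ : WithBot ℕ∞) < ringKrullDim (R ⧸ (b ⊔ p))) (k : ℕ)
    (hk : LocCoh.CdLE R (a ⊓ b) k) :
    ringKrullDim (R ⧸ p) ≤ ((k + δ + 1 : ℕ) : WithBot ℕ∞) := by
  haveI : IsLocalRing (R ⧸ p) :=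
    IsLocalRing.of_surjective' (Ideal.Quotient.mk p) Ideal.Quotient.mk_surjective
  haveI : IsAdicComplete (maximalIdeal (R ⧸ p)) (R ⧸ p) :=
    Groth.Agent.H26.ComplQuot.isAdicComplete_quotient p
  have hp : p ≠ ⊤ := Ideal.IsPrime.ne_top inferInstance
  obtain ⟨n, hn⟩ : ∃ n : ℕ, ringKrullDim (R ⧸ p) = n := exists_nat_dim_quot p hp
  set mk := Ideal.Quotient.mk p with hmk
  have ha' : a.map mk ≠ ⊤ := map_mk_ne_top p a (sup_ne_top' hp ha)
  have hb' : b.map mk ≠ ⊤ := map_mk_ne_top p b (sup_ne_top' hp hb)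
  have hsup : ringKrullDim ((R ⧸ p) ⧸ (a.map mk ⊔ b.map mk)) ≤ (δ : WithBot ℕ∞) := by
    rw [← Ideal.map_sup, dim_quot_map_mk]
    exact (dim_quot_mono le_sup_right).trans hδ
  have h1' : (δ : WithBot ℕ∞) < ringKrullDim ((R ⧸ p) ⧸ a.map mk) := by
    rw [dim_quot_map_mk, sup_comm]; exact h1
  have h2' : (δ : WithBot ℕ∞) < ringKrullDim ((R ⧸ p) ⧸ b.map mk) := by
    rw [dim_quot_map_mk, sup_comm]; exact h2
  have hcd : LocCoh.CdLE (R ⧸ p) (a.map mk ⊓ b.map mk) k := by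
    refine cdLE_of_radical_eq ((a ⊓ b).map mk) _ ?_ k (cdLE_map_mk p (a ⊓ b) k hk)
    apply le_antisymm
    · exact Ideal.radical_mono (le_inf (Ideal.map_mono inf_le_left) (Ideal.map_mono inf_le_right))
    · rw [Ideal.radical_le_radical_iff]
      intro y hy
      refine ⟨2, ?_⟩
      rw [pow_two]
      have h3 : y * y ∈ a.map mk * b.map mk := Ideal.mul_mem_mul hy.1 hy.2
      rw [← Ideal.map_mul] at h3
      exact Ideal.map_mono Ideal.mul_le_inf h3
  have := dim_le_cd_inter (R ⧸ p) n hn δ (a.map mk) (b.map mk) k ha' hb' hsup h1' h2' hcd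
  rw [hn]
  exact_mod_cast this

end Quot

section Spec
variable {R : Type u} [CommRing R] [IsNoetherianRing R]

theorem subdim_le_dim_quot_minimalPrime (p : Ideal R) (hp : p ∈ minimalPrimes R) :
    LocCoh.subdim (PrimeSpectrum R) ≤ ringKrullDim (R ⧸ p) := by
  unfold LocCoh.subdim
  rw [← ConnDimSpec.dim_zeroLocus]
  refine iInf₂_le_of_le (zeroLocus (p : Set R)) ?_ le_rfl
  rw [← zeroLocus_minimalPrimes]
  exact ⟨p, hp, rfl⟩

variable [IsLocalRing R]

/-- dimension of a closed subset of the spectrum, pointwise bound -/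
theorem dim_closed_le (Z : Set (PrimeSpectrum R)) (hZ : IsClosed Z) (d : WithBot ℕ∞)
    (h : ∀ q ∈ Z, ringKrullDim (R ⧸ q.asIdeal) ≤ d) : topologicalKrullDim ↥Z ≤ d := by
  have hZ' : zeroLocus (vanishingIdeal Z : Set R) = Z := by
    rw [zeroLocus_vanishingIdeal_eq_closure, hZ.closure_eq]
  have hdim : topologicalKrullDim ↥Z = ringKrullDim (R ⧸ vanishingIdeal Z) := by
    have := ConnDimSpec.dim_zeroLocus (vanishingIdeal Z)
    rw [hZ'] at this
    exact this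
  rw [hdim]
  refine dim_quot_le_of_forall_prime _ d ?_
  intro P hP hle
  have hmem : (⟨P, hP⟩ : PrimeSpectrum R) ∈ zeroLocus (vanishingIdeal Z : Set R) :=
    (mem_zeroLocus _ _).2 (SetLike.coe_subset_coe.2 hle)
  rw [hZ'] at hmem
  have h3 := h ⟨P, hP⟩ hmem
  exact h3

end Spec

end Groth.Agent.H58.Conn
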