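import Groth.Agent.H58.Conn.BS10

/-!
# Grothendieck's connectedness theorem, cohomological-dimension form
`min (c(R) + 1, sdim R) ≤ c(R/a) + cd(a) + 1`
-/
set_option autoImplicit false
set_option linter.unusedSectionVars false
set_option linter.style.haveILetI false
universe u

namespace Groth.Agent.H58.Conn

open IsLocalRing PrimeSpectrum TopologicalSpace

variable (R : Type u) [CommRing R] [IsNoetherianRing R] [IsLocalRing R]
  [IsAdicComplete (maximalIdeal R) R]

theorem bs_19_2_9_cd (a : Ideal R) (ha : a ≠ ⊤) (k : ℕ) (hk : LocCoh.CdLE R a k) :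
    min (LocCoh.connDim (PrimeSpectrum R) + 1) (LocCoh.subdim (PrimeSpectrum R)) ≤
      LocCoh.connDim (PrimeSpectrum (R ⧸ a)) + (k : WithBot ℕ∞) + 1 := by
  haveI : Nontrivial (R ⧸ a) := Ideal.Quotient.nontrivial_iff.2 ha
  haveI : IsLocalRing (R ⧸ a) :=
    IsLocalRing.of_surjective' (Ideal.Quotient.mk a) Ideal.Quotient.mk_surjective
  by_cases hirr : IrreducibleSpace (PrimeSpectrum (R ⧸ a))
  · -- irreducible case
    have hc : LocCoh.connDim (PrimeSpectrum (R ⧸ a)) = ringKrullDim (R ⧸ a) := by
      rw [connDim_eq_dim_of_irreducible (topologicalKrullDim_spec_lt_top (R ⧸ a)),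
        PrimeSpectrum.topologicalKrullDim_eq_ringKrullDim]
    rw [hc]
    obtain ⟨p, hp⟩ : ∃ p, p ∈ minimalPrimes R := by
      obtain ⟨p, hp, -⟩ := Ideal.exists_minimalPrimes_le (I := (⊥ : Ideal R))
        (J := maximalIdeal R) bot_le
      exact ⟨p, hp⟩
    haveI : p.IsPrime := hp.1.1
    refine (min_le_right _ _).trans ((subdim_le_dim_quot_minimalPrime p hp).trans ?_)
    have h1 := dim_quot_prime_le p a ha k hk
    have h2 : ringKrullDim (R ⧸ (p ⊔ a)) ≤ ringKrullDim (R ⧸ a) := dim_quot_mono le_sup_right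
    refine h1.trans ?_
    rw [add_comm (k : WithBot ℕ∞)]
    exact (add_le_add_left h2 _).trans (le_add_of_nonneg_right zero_le_one)
  · -- reducible case
    obtain ⟨I, J, hI, hJ, hIJ, hdim, hltI, hltJ⟩ := exists_split (S := R ⧸ a) hirr
    set mk := Ideal.Quotient.mk a with hmk
    have hsurj : Function.Surjective mk := Ideal.Quotient.mk_surjective
    set c := I.comap mk with hc
    set e := J.comap mk with he
    have hac : a ≤ c := by
      intro x hx
      rw [hc, Ideal.mem_comap, hmk, Ideal.Quotient.eq_zero_iff_mem.2 hx]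
      exact I.zero_mem
    have hae : a ≤ e := by
      intro x hx
      rw [he, Ideal.mem_comap, hmk, Ideal.Quotient.eq_zero_iff_mem.2 hx]
      exact J.zero_mem
    have hctop : c ≠ ⊤ := Ideal.comap_ne_top mk hI
    have hetop : e ≠ ⊤ := Ideal.comap_ne_top mk hJ
    have hmapc : c.map mk = I := Ideal.map_comap_of_surjective mk hsurj I
    have hmape : e.map mk = J := Ideal.map_comap_of_surjective mk hsurj J
    have hdc : ringKrullDim (R ⧸ c) = ringKrullDim ((R ⧸ a) ⧸ I) := by
      have := dim_quot_map_mk a c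
      rw [sup_eq_right.2 hac] at this
      rw [← this]
      rw [← hmk, hmapc]
    have hde : ringKrullDim (R ⧸ e) = ringKrullDim ((R ⧸ a) ⧸ J) := by
      have := dim_quot_map_mk a e
      rw [sup_eq_right.2 hae] at this
      rw [← this]
      rw [← hmk, hmape]
    have hdce : ringKrullDim (R ⧸ (c ⊔ e)) = ringKrullDim ((R ⧸ a) ⧸ (I ⊔ J)) := by
      have := dim_quot_map_mk a (c ⊔ e)
      rw [sup_eq_right.2 (hac.trans le_sup_left)] at this
      rw [← this]
      rw [← hmk, Ideal.map_sup, hmapc, hmape]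
    have hrad : (c ⊓ e).radical = a.radical := by
      apply le_antisymm
      · rw [Ideal.radical_le_radical_iff]
        intro x hx
        have h1 : mk x ∈ I ⊓ J := ⟨hx.1, hx.2⟩
        have h2 := hIJ h1
        obtain ⟨n, hn⟩ := h2
        refine ⟨n, ?_⟩
        rw [← map_pow] at hn
        exact Ideal.Quotient.eq_zero_iff_mem.1 hn
      · exact Ideal.radical_mono (le_inf hac hae)
    have hcd : LocCoh.CdLE R (c ⊓ e) k := cdLE_of_radical_eq _ _ hrad.symm _ hk
    have hlt : ringKrullDim (R ⧸ (c ⊔ e)) < min (ringKrullDim (R ⧸ c)) (ringKrullDim (R ⧸ e)) := by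
      rw [hdce, hdc, hde]
      exact lt_min hltI hltJ
    have := bs_19_2_6 R c e hctop hetop hlt k hcd
    rwa [hdce, hdim] at this

end Groth.Agent.H58.Conn
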