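import Groth.Agent.H58.NV.NotFG
import Groth.Agent.H58.NV.Dim

/-!
# Dimension bookkeeping for quotients of a Noetherian local ring
-/
set_option autoImplicit false
set_option linter.unusedSectionVars false
universe u

namespace Groth.Agent.H58.Conn

open IsLocalRing

section General
variable {R : Type u} [CommRing R]

theorem dim_quot_mono {I J : Ideal R} (h : I ≤ J) :
    ringKrullDim (R ⧸ J) ≤ ringKrullDim (R ⧸ I) :=
  ringKrullDim_le_of_surjective (Ideal.Quotient.factor h) (Ideal.Quotient.factor_surjective h)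

theorem dim_quot_radical (I : Ideal R) :
    ringKrullDim (R ⧸ I.radical) = ringKrullDim (R ⧸ I) := by
  rw [ringKrullDim_quotient, ringKrullDim_quotient, PrimeSpectrum.zeroLocus_radical]

theorem dim_quot_eq_of_radical_eq {I J : Ideal R} (h : I.radical = J.radical) :
    ringKrullDim (R ⧸ I) = ringKrullDim (R ⧸ J) := by
  rw [← dim_quot_radical I, ← dim_quot_radical J, h]

theorem supportDim_quotSMulTop_quot (I : Ideal R) (x : R) :
    Module.supportDim R (QuotSMulTop x (R ⧸ I)) =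
      ringKrullDim (R ⧸ (I ⊔ Ideal.span {x})) := by
  rw [ringKrullDim_quotient]
  unfold Module.supportDim
  have : Module.support R (QuotSMulTop x (R ⧸ I)) =
      PrimeSpectrum.zeroLocus ((I ⊔ Ideal.span {x} : Ideal R) : Set R) := by
    rw [Module.support_quotSMulTop, Module.support_eq_zeroLocus, Ideal.annihilator_quotient,
      PrimeSpectrum.zeroLocus_sup, PrimeSpectrum.zeroLocus_span]
  rw [this]

/-- a prime over `I` realizing the dimension of `R ⧸ I` -/
theorem exists_prime_dim_quot_eq (I : Ideal R) (d : ℕ) (hd : ringKrullDim (R ⧸ I) = d) :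
    ∃ P : Ideal R, P.IsPrime ∧ I ≤ P ∧ ringKrullDim (R ⧸ P) = d := by
  obtain ⟨p, hp, hpd⟩ := NV.exists_prime_dim_eq (R := R) (R ⧸ I) d
    (by rw [Module.supportDim_quotient_eq_ringKrullDim, hd])
  refine ⟨p.asIdeal, p.2, ?_, hpd⟩
  rw [Module.support_eq_zeroLocus, Ideal.annihilator_quotient] at hp
  exact hp

end General

variable {R : Type u} [CommRing R] [IsNoetherianRing R] [IsLocalRing R]

theorem exists_nat_dim_quot (I : Ideal R) (hI : I ≠ ⊤) :
    ∃ d : ℕ, ringKrullDim (R ⧸ I) = d := by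
  haveI : Nontrivial (R ⧸ I) := Ideal.Quotient.nontrivial_iff.2 hI
  have h1 : ringKrullDim (R ⧸ I) ≠ ⊥ := ringKrullDim_ne_bot
  have h2 : ringKrullDim (R ⧸ I) ≠ ⊤ := by
    have h3 : ringKrullDim (R ⧸ I) ≤ ringKrullDim R := ringKrullDim_quotient_le I
    have h4 : ringKrullDim R < ⊤ := ringKrullDim_lt_top
    exact (lt_of_le_of_lt h3 h4).ne
  obtain ⟨e, he⟩ := WithBot.ne_bot_iff_exists.1 h1
  have he' : e ≠ ⊤ := by
    intro h
    rw [h] at he
    exact h2 he.symm
  obtain ⟨d, hd⟩ := ENat.ne_top_iff_exists.1 he'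
  exact ⟨d, by rw [← he, ← hd]; rfl⟩

/-- the dimension of `R ⧸ I` is bounded by the dimensions of `R ⧸ P`, `P ⊇ I` prime -/
theorem dim_quot_le_of_forall_prime (I : Ideal R) (d : WithBot ℕ∞)
    (h : ∀ P : Ideal R, P.IsPrime → I ≤ P → ringKrullDim (R ⧸ P) ≤ d) :
    ringKrullDim (R ⧸ I) ≤ d := by
  by_cases hI : I = ⊤
  · subst hI
    haveI : Subsingleton (R ⧸ (⊤ : Ideal R)) := Ideal.Quotient.subsingleton_iff.2 rfl
    rw [ringKrullDim_eq_bot_of_subsingleton]
    exact bot_le
  · obtain ⟨n, hn⟩ := exists_nat_dim_quot I hI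
    obtain ⟨P, hP, hIP, hPd⟩ := exists_prime_dim_quot_eq I n hn
    rw [hn, ← hPd]
    exact h P hP hIP

/-- a parameter element for `R ⧸ I` -/
theorem exists_mem_dim_quot_sup_lt (I : Ideal R) (n : ℕ) (hn0 : 0 < n)
    (hn : ringKrullDim (R ⧸ I) = n) :
    ∃ x ∈ maximalIdeal R, ringKrullDim (R ⧸ (I ⊔ Ideal.span {x})) < (n : WithBot ℕ∞) := by
  obtain ⟨x, hx, h⟩ := NV.exists_mem_maximalIdeal_supportDim_lt R (R ⧸ I) n hn0
    (by rw [Module.supportDim_quotient_eq_ringKrullDim, hn])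
  refine ⟨x, hx, ?_⟩
  rwa [supportDim_quotSMulTop_quot] at h

theorem dim_quot_le_dim_quot_sup_succ (I : Ideal R) (x : R) (hx : x ∈ maximalIdeal R) :
    ringKrullDim (R ⧸ I) ≤ ringKrullDim (R ⧸ (I ⊔ Ideal.span {x})) + 1 := by
  have h := Module.supportDim_le_supportDim_quotSMulTop_succ (R := R) (M := R ⧸ I) hx
  rwa [supportDim_quotSMulTop_quot, Module.supportDim_quotient_eq_ringKrullDim] at h

/-- if `dim R/I ≤ 0` and `I` is proper then `I` is primary to the maximal ideal -/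
theorem radical_eq_maximalIdeal_of_dim_quot_le_zero (I : Ideal R) (hI : I ≠ ⊤)
    (h : ringKrullDim (R ⧸ I) ≤ 0) : I.radical = maximalIdeal R := by
  apply le_antisymm
  · exact (Ideal.IsPrime.radical_le_iff inferInstance).2 (le_maximalIdeal hI)
  · rw [Ideal.radical_eq_sInf]
    refine le_sInf ?_
    rintro P ⟨hIP, hP⟩
    haveI := hP
    by_contra hne
    have hlt : P < maximalIdeal R := lt_of_le_of_ne (le_maximalIdeal hP.ne_top)
      (fun h => hne (h ▸ le_rfl))
    have h1 := Groth.Agent.H29.CML.ringKrullDim_quotient_add_one_le_of_lt P (maximalIdeal R) hlt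
    have h2 : ringKrullDim (R ⧸ P) ≤ 0 := (dim_quot_mono hIP).trans h
    haveI : Nontrivial (R ⧸ maximalIdeal R) :=
      Ideal.Quotient.nontrivial_iff.2 (Ideal.IsPrime.ne_top inferInstance)
    have h3 : (0 : WithBot ℕ∞) ≤ ringKrullDim (R ⧸ maximalIdeal R) := ringKrullDim_nonneg_of_nontrivial
    have h4 : (0 : WithBot ℕ∞) + 1 ≤ 0 := (add_le_add_left h3 1).trans (h1.trans h2)
    exact absurd h4 (by decide)

end Groth.Agent.H58.Conn
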