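import Groth.Agent.H58.Conn.CdRad
import Groth.Agent.H58.Conn.DimLemmas
import Groth.Agent.H58.NV.Main
import Groth.Agent.H58.HL.Main
import Groth.Agent.S11605

/-!
# `dim S ≤ cd f + dim S/f`, and the Mayer–Vietoris bound for complete local domains
-/
set_option autoImplicit false
set_option linter.unusedSectionVars false
universe u

namespace Groth.Agent.H58.Conn

open IsLocalRing Groth.Agent.H58.LC

section MV
variable {R : Type u} [CommRing R] [IsNoetherianRing R]

/-- vanishing from the Mayer–Vietoris sequence -/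
theorem subsingleton_H_sup_of_MV (a b : Ideal R) (M : Type u) [AddCommGroup M] [Module R M]
    (i : ℕ) (ha : Subsingleton (LocCoh.H a (i + 1) M)) (hb : Subsingleton (LocCoh.H b (i + 1) M))
    (hab : Subsingleton (LocCoh.H (a ⊓ b) i M)) : Subsingleton (LocCoh.H (a ⊔ b) (i + 1) M) := by
  obtain ⟨δ, -, h1, -, -⟩ := Groth.Agent.S11605.result R a b M
  have key : ∀ y : LocCoh.H (a ⊔ b) (i + 1) M, y = 0 := by
    intro y
    have hy : y ∈ LinearMap.ker (LinearMap.prod
        ((Dual2.HmapOfLE (le_sup_left : a ≤ a ⊔ b) (i + 1)).app (ModuleCat.of R M)).hom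
        ((Dual2.HmapOfLE (le_sup_right : b ≤ a ⊔ b) (i + 1)).app (ModuleCat.of R M)).hom) := by
      rw [LinearMap.mem_ker]
      apply Prod.ext
      · exact Subsingleton.elim (h := ha) _ _
      · exact Subsingleton.elim (h := hb) _ _
    rw [h1 i] at hy
    obtain ⟨z, rfl⟩ := hy
    rw [Subsingleton.elim (h := hab) z 0, map_zero]
  exact ⟨fun x y => by rw [key x, key y]⟩

end MV

section LemmaD
variable (S : Type u) [CommRing S] [IsNoetherianRing S] [IsLocalRing S]

/-- `dim S ≤ cd f + dim S/f` -/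
theorem dim_le_cd_add_dim_quot (D : ℕ) (hD : ringKrullDim S = D) :
    ∀ (t : ℕ) (f : Ideal S) (k : ℕ), f ≠ ⊤ → ringKrullDim (S ⧸ f) ≤ (t : WithBot ℕ∞) →
      LocCoh.CdLE S f k → D ≤ k + t := by
  intro t
  induction t with
  | zero =>
    intro f k hf hdim hcd
    have hrad := radical_eq_maximalIdeal_of_dim_quot_le_zero f hf (by exact_mod_cast hdim)
    have hm : LocCoh.CdLE S (maximalIdeal S) k := by
      refine cdLE_of_radical_eq f (maximalIdeal S) ?_ k hcd
      rw [hrad, (Ideal.IsMaximal.isPrime (maximalIdeal.isMaximal S)).radical]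
    by_contra hlt
    have h1 : Subsingleton (LocCoh.H (maximalIdeal S) D S) := hm S D (by omega)
    have h2 := NV.nonvanishing_ring S D hD
    exact not_subsingleton _ h1
  | succ t ih =>
    intro f k hf hdim hcd
    by_cases hle : ringKrullDim (S ⧸ f) ≤ (t : WithBot ℕ∞)
    · have := ih f k hf hle hcd
      omega
    · obtain ⟨n, hn⟩ := exists_nat_dim_quot f hf
      rw [hn] at hle hdim
      have hn1 : n = t + 1 := by
        have h1 : n ≤ t + 1 := by exact_mod_cast hdim
        have h2 : ¬ n ≤ t := fun h => hle (by exact_mod_cast h)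
        omega
      obtain ⟨x, hx, hxdim⟩ := exists_mem_dim_quot_sup_lt f n (by omega) hn
      have hf' : f ⊔ Ideal.span {x} ≠ ⊤ := by
        intro htop
        have hle' : f ⊔ Ideal.span {x} ≤ maximalIdeal S :=
          sup_le (le_maximalIdeal hf) ((Ideal.span_singleton_le_iff_mem _).2 hx)
        rw [htop] at hle'
        exact (Ideal.IsPrime.ne_top inferInstance) (top_le_iff.1 hle')
      obtain ⟨n', hn'⟩ := exists_nat_dim_quot (f ⊔ Ideal.span {x}) hf'
      rw [hn'] at hxdim
      have hn't : n' ≤ t := by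
        have : n' < n := by exact_mod_cast hxdim
        omega
      have := ih (f ⊔ Ideal.span {x}) (k + 1) hf' (by rw [hn']; exact_mod_cast hn't)
        (cdLE_sup_span_singleton f x k hcd)
      omega

/-- `dim S ≤ cd f + dim S/f`, `WithBot ℕ∞` form -/
theorem ringKrullDim_le_cd_add_dim_quot (f : Ideal S) (hf : f ≠ ⊤) (k : ℕ)
    (hcd : LocCoh.CdLE S f k) :
    ringKrullDim S ≤ (k : WithBot ℕ∞) + ringKrullDim (S ⧸ f) := by
  obtain ⟨D, hD⟩ : ∃ D : ℕ, ringKrullDim S = D := by
    have := exists_nat_dim_quot (⊥ : Ideal S) bot_ne_top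
    obtain ⟨D, hD⟩ := this
    exact ⟨D, by rw [← hD]; exact (ringKrullDim_eq_of_ringEquiv (RingEquiv.quotientBot S)).symm⟩
  obtain ⟨t, ht⟩ := exists_nat_dim_quot f hf
  have := dim_le_cd_add_dim_quot S D hD t f k hf (le_of_eq ht) hcd
  rw [hD, ht]
  exact_mod_cast this

end LemmaD

section Domain
variable (R : Type u) [CommRing R] [IsDomain R] [IsNoetherianRing R] [IsLocalRing R]
  [IsAdicComplete (maximalIdeal R) R]

theorem sup_ne_top_of_mem {I : Ideal R} (hI : I ≠ ⊤) {x : R} (hx : x ∈ maximalIdeal R) :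
    I ⊔ Ideal.span {x} ≠ ⊤ := by
  intro htop
  have hle' : I ⊔ Ideal.span {x} ≤ maximalIdeal R :=
    sup_le (le_maximalIdeal hI) ((Ideal.span_singleton_le_iff_mem _).2 hx)
  rw [htop] at hle'
  exact (Ideal.IsPrime.ne_top inferInstance) (top_le_iff.1 hle')

/-- the key bound (Brodmann–Sharp 19.2.5), inductive form -/
theorem dim_le_cd_inter (n : ℕ) (hn : ringKrullDim R = n) :
    ∀ (d : ℕ) (a b : Ideal R) (k : ℕ), a ≠ ⊤ → b ≠ ⊤ →
      ringKrullDim (R ⧸ (a ⊔ b)) ≤ (d : WithBot ℕ∞) →
      (d : WithBot ℕ∞) < ringKrullDim (R ⧸ a) → (d : WithBot ℕ∞) < ringKrullDim (R ⧸ b) →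
      LocCoh.CdLE R (a ⊓ b) k → n ≤ k + d + 1 := by
  intro d
  induction d with
  | zero =>
    intro a b k ha hb hab hda hdb hcd
    have hab_top : a ⊔ b ≠ ⊤ := by
      intro htop
      have hle' : a ⊔ b ≤ maximalIdeal R := sup_le (le_maximalIdeal ha) (le_maximalIdeal hb)
      rw [htop] at hle'
      exact (Ideal.IsPrime.ne_top inferInstance) (top_le_iff.1 hle')
    have hrad := radical_eq_maximalIdeal_of_dim_quot_le_zero (a ⊔ b) hab_top
      (by exact_mod_cast hab)
    by_contra hlt
    obtain ⟨m, rfl⟩ : ∃ m, n = m + 1 := ⟨n - 1, by omega⟩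
    have h1 : Subsingleton (LocCoh.H a (m + 1) R) :=
      HL.subsingleton_H_domain R (m + 1) hn a (by exact_mod_cast hda)
    have h2 : Subsingleton (LocCoh.H b (m + 1) R) :=
      HL.subsingleton_H_domain R (m + 1) hn b (by exact_mod_cast hdb)
    have h3 : Subsingleton (LocCoh.H (a ⊓ b) m R) := hcd R m (by omega)
    have h4 := subsingleton_H_sup_of_MV a b R m h1 h2 h3
    have h5 : Subsingleton (LocCoh.H (maximalIdeal R) (m + 1) R) := by
      refine subsingleton_H_of_radical_eq (a ⊔ b) (maximalIdeal R) ?_ R (m + 1) h4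
      rw [hrad, (Ideal.IsMaximal.isPrime (maximalIdeal.isMaximal R)).radical]
    have h6 := NV.nonvanishing_ring R (m + 1) hn
    exact not_subsingleton _ h5
  | succ d ih =>
    intro a b k ha hb hab hda hdb hcd
    have hdlt : ((d : ℕ) : WithBot ℕ∞) < ((d + 1 : ℕ) : WithBot ℕ∞) := by
      exact_mod_cast Nat.lt_succ_self d
    by_cases hle : ringKrullDim (R ⧸ (a ⊔ b)) ≤ (d : WithBot ℕ∞)
    · have := ih a b k ha hb hle (hdlt.trans hda) (hdlt.trans hdb) hcd
      omega
    · have hab_top : a ⊔ b ≠ ⊤ := by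
        intro htop
        have hle' : a ⊔ b ≤ maximalIdeal R := sup_le (le_maximalIdeal ha) (le_maximalIdeal hb)
        rw [htop] at hle'
        exact (Ideal.IsPrime.ne_top inferInstance) (top_le_iff.1 hle')
      obtain ⟨e, he⟩ := exists_nat_dim_quot (a ⊔ b) hab_top
      rw [he] at hle hab
      have he1 : e = d + 1 := by
        have h1 : e ≤ d + 1 := by exact_mod_cast hab
        have h2 : ¬ e ≤ d := fun h => hle (by exact_mod_cast h)
        omega
      obtain ⟨x, hx, hxdim⟩ := exists_mem_dim_quot_sup_lt (a ⊔ b) e (by omega) he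
      -- the new ideals
      have ha' := sup_ne_top_of_mem R ha hx
      have hb' := sup_ne_top_of_mem R hb hx
      have hsup : (a ⊔ Ideal.span {x}) ⊔ (b ⊔ Ideal.span {x}) = (a ⊔ b) ⊔ Ideal.span {x} :=
        (sup_sup_distrib_right a b (Ideal.span {x})).symm
      have habx_top := sup_ne_top_of_mem R hab_top hx
      obtain ⟨e', he'⟩ := exists_nat_dim_quot ((a ⊔ b) ⊔ Ideal.span {x}) habx_top
      rw [he'] at hxdim
      have he'd : e' ≤ d := by
        have : e' < e := by exact_mod_cast hxdim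
        omega
      have hda' : (d : WithBot ℕ∞) < ringKrullDim (R ⧸ (a ⊔ Ideal.span {x})) := by
        obtain ⟨u, hu⟩ := exists_nat_dim_quot a ha
        obtain ⟨u', hu'⟩ := exists_nat_dim_quot _ ha'
        have h1 := dim_quot_le_dim_quot_sup_succ a x hx
        rw [hu, hu'] at h1
        rw [hu] at hda
        rw [hu']
        have h1' : u ≤ u' + 1 := by exact_mod_cast h1
        have h2' : d + 1 < u := by exact_mod_cast hda
        exact_mod_cast (by omega : d < u')
      have hdb' : (d : WithBot ℕ∞) < ringKrullDim (R ⧸ (b ⊔ Ideal.span {x})) := by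
        obtain ⟨u, hu⟩ := exists_nat_dim_quot b hb
        obtain ⟨u', hu'⟩ := exists_nat_dim_quot _ hb'
        have h1 := dim_quot_le_dim_quot_sup_succ b x hx
        rw [hu, hu'] at h1
        rw [hu] at hdb
        rw [hu']
        have h1' : u ≤ u' + 1 := by exact_mod_cast h1
        have h2' : d + 1 < u := by exact_mod_cast hdb
        exact_mod_cast (by omega : d < u')
      have hcd' : LocCoh.CdLE R ((a ⊔ Ideal.span {x}) ⊓ (b ⊔ Ideal.span {x})) (k + 1) := by
        refine cdLE_of_radical_eq ((a ⊓ b) ⊔ Ideal.span {x}) _ ?_ (k + 1)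
          (cdLE_sup_span_singleton (a ⊓ b) x k hcd)
        apply le_antisymm
        · exact Ideal.radical_mono (le_inf (sup_le_sup_right inf_le_left _)
            (sup_le_sup_right inf_le_right _))
        · rw [Ideal.radical_le_radical_iff]
          intro y hy
          refine ⟨2, ?_⟩
          rw [pow_two]
          have h1 : y * y ∈ (a ⊔ Ideal.span {x}) * (b ⊔ Ideal.span {x}) :=
            Ideal.mul_mem_mul hy.1 hy.2
          have h2 : (a ⊔ Ideal.span {x}) * (b ⊔ Ideal.span {x}) ≤ (a ⊓ b) ⊔ Ideal.span {x} := by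
            rw [Ideal.sup_mul, Ideal.mul_sup, Ideal.mul_sup]
            refine sup_le (sup_le (Ideal.mul_le_inf.trans le_sup_left)
              ((Ideal.mul_le_inf.trans inf_le_right).trans le_sup_right))
              (sup_le ((Ideal.mul_le_inf.trans inf_le_left).trans le_sup_right)
              ((Ideal.mul_le_inf.trans inf_le_left).trans le_sup_right))
          exact h2 h1
      have := ih (a ⊔ Ideal.span {x}) (b ⊔ Ideal.span {x}) (k + 1) ha' hb'
        (by rw [hsup, he']; exact_mod_cast he'd) hda' hdb' hcd'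
      omega

end Domain

end Groth.Agent.H58.Conn

namespace Groth.Agent.H58.Conn

open IsLocalRing

theorem sup_ne_top' {R : Type u} [CommRing R] [IsLocalRing R] {a b : Ideal R} (ha : a ≠ ⊤)
    (hb : b ≠ ⊤) : a ⊔ b ≠ ⊤ := by
  intro htop
  have hle' : a ⊔ b ≤ maximalIdeal R := sup_le (le_maximalIdeal ha) (le_maximalIdeal hb)
  rw [htop] at hle'
  exact (Ideal.IsPrime.ne_top inferInstance) (top_le_iff.1 hle')

/-- Brodmann–Sharp 19.2.5 -/
theorem dim_le_cd_inter_add (R : Type u) [CommRing R] [IsDomain R] [IsNoetherianRing R]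
    [IsLocalRing R] [IsAdicComplete (maximalIdeal R) R] (n : ℕ) (hn : ringKrullDim R = n)
    (a b : Ideal R) (ha : a ≠ ⊤) (hb : b ≠ ⊤)
    (hab : ringKrullDim (R ⧸ (a ⊔ b)) < min (ringKrullDim (R ⧸ a)) (ringKrullDim (R ⧸ b)))
    (k : ℕ) (hk : LocCoh.CdLE R (a ⊓ b) k) :
    (n : WithBot ℕ∞) ≤ (k : WithBot ℕ∞) + ringKrullDim (R ⧸ (a ⊔ b)) + 1 := by
  obtain ⟨d, hd⟩ := exists_nat_dim_quot (a ⊔ b) (sup_ne_top' ha hb)
  rw [hd] at hab ⊢
  have := dim_le_cd_inter R n hn d a b k ha hb (le_of_eq hd) (lt_min_iff.1 hab).1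
    (lt_min_iff.1 hab).2 hk
  exact_mod_cast this

end Groth.Agent.H58.Conn
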