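import Groth.Agent.H58.LCCompare
import Groth.Agent.H58.LCArith
import Groth.Agent.S0381

/-!
# Cohomological dimension: radical invariance and `cd (I + xR) ≤ cd I + 1`
-/
set_option autoImplicit false
set_option linter.unusedSectionVars false
universe u

namespace Groth.Agent.H58.Conn

open Groth.Agent.H58.LC

variable {R : Type u} [CommRing R] [IsNoetherianRing R]

/-- the comparison map is bijective when `I ≤ J ≤ rad I` -/
theorem bijective_HmapOfLE_of_le_radical (I J : Ideal R) (h1 : I ≤ J) (h2 : J ≤ I.radical)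
    (M : Type u) [AddCommGroup M] [Module R M] (i : ℕ) :
    Function.Bijective ((Dual2.HmapOfLE h1 i).app (ModuleCat.of R M)).hom := by
  have hvac : ∀ p : PrimeSpectrum R, I ≤ p.asIdeal → ¬ J ≤ p.asIdeal → False := by
    intro p hp hnp
    apply hnp
    intro x hx
    obtain ⟨n, hn⟩ := h2 hx
    exact p.2.mem_of_pow_mem n (hp hn)
  have h := comparison I J h1 M i
  exact ⟨h.2 (fun p hp hnp => (hvac p hp hnp).elim), h.1 (fun p hp hnp => (hvac p hp hnp).elim)⟩

theorem subsingleton_H_iff_of_le_radical (I J : Ideal R) (h1 : I ≤ J) (h2 : J ≤ I.radical)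
    (M : Type u) [AddCommGroup M] [Module R M] (i : ℕ) :
    Subsingleton (LocCoh.H I i M) ↔ Subsingleton (LocCoh.H J i M) := by
  have hb := bijective_HmapOfLE_of_le_radical I J h1 h2 M i
  constructor
  · intro h
    exact hb.1.subsingleton
  · intro h
    exact hb.2.subsingleton

/-- local cohomology vanishing only depends on the radical -/
theorem subsingleton_H_of_radical_eq (I J : Ideal R) (h : I.radical = J.radical)
    (M : Type u) [AddCommGroup M] [Module R M] (i : ℕ) (hI : Subsingleton (LocCoh.H I i M)) :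
    Subsingleton (LocCoh.H J i M) := by
  have h1 : Subsingleton (LocCoh.H (I ⊔ J) i M) :=
    (subsingleton_H_iff_of_le_radical I (I ⊔ J) le_sup_left
      (sup_le Ideal.le_radical (h ▸ Ideal.le_radical)) M i).1 hI
  exact (subsingleton_H_iff_of_le_radical J (I ⊔ J) le_sup_right
      (sup_le (h ▸ Ideal.le_radical) Ideal.le_radical) M i).2 h1

theorem cdLE_of_radical_eq (I J : Ideal R) (h : I.radical = J.radical) (k : ℕ)
    (hI : LocCoh.CdLE R I k) : LocCoh.CdLE R J k := by
  intro M _ _ i hi
  exact subsingleton_H_of_radical_eq I J h M i (hI M i hi)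

/-- `cd (I + xR) ≤ cd I + 1` -/
theorem cdLE_sup_span_singleton (I : Ideal R) (x : R) (k : ℕ) (hI : LocCoh.CdLE R I k) :
    LocCoh.CdLE R (I ⊔ Ideal.span {x}) (k + 1) := by
  classical
  have h1 : LocCoh.CdLE R (Ideal.span (({x} : Finset R) : Set R)) 1 := by
    have := cdLE_span_finset ({x} : Finset R)
    simpa using this
  have h2 := Groth.Agent.S0381.result R I (Ideal.span (({x} : Finset R) : Set R)) k 1 hI h1
  simpa using h2

/-- `cd (I + (s)) ≤ cd I + |s|` -/
theorem cdLE_sup_span_finset (I : Ideal R) (s : Finset R) (k : ℕ) (hI : LocCoh.CdLE R I k) :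
    LocCoh.CdLE R (I ⊔ Ideal.span (s : Set R)) (k + s.card) :=
  Groth.Agent.S0381.result R I _ k s.card hI (cdLE_span_finset s)

end Groth.Agent.H58.Conn
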