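import Groth.Agent.H58.Conn.BS9cd

/-!
# Connectedness of `V(I) ∖ Z` from cohomological dimension (complete local rings)
-/
set_option autoImplicit false
set_option linter.unusedSectionVars false
set_option linter.style.haveILetI false
universe u

namespace Groth.Agent.H58.Conn

open IsLocalRing PrimeSpectrum TopologicalSpace

section
variable (S : Type u) [CommRing S] [IsNoetherianRing S] [IsLocalRing S]

theorem exists_minimalPrime_subdim_eq :
    ∃ p ∈ minimalPrimes S, LocCoh.subdim (PrimeSpectrum S) = ringKrullDim (S ⧸ p) := by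
  have hcompsne : (irreducibleComponents (PrimeSpectrum S)).Nonempty := by
    obtain ⟨x⟩ := (inferInstance : Nonempty (PrimeSpectrum S))
    exact ⟨irreducibleComponent x, irreducibleComponent_mem_irreducibleComponents x⟩
  have : Nonempty ↥(irreducibleComponents (PrimeSpectrum S)) := hcompsne.to_subtype
  have hatt : ∃ C₀ ∈ irreducibleComponents (PrimeSpectrum S),
      LocCoh.subdim (PrimeSpectrum S) = topologicalKrullDim ↥C₀ := by
    unfold LocCoh.subdim
    rw [iInf_subtype']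
    obtain ⟨C₀, hC₀⟩ := ciInf_mem (fun C : ↥(irreducibleComponents (PrimeSpectrum S)) =>
      topologicalKrullDim ↥(C : Set (PrimeSpectrum S)))
    exact ⟨C₀.1, C₀.2, hC₀.symm⟩
  obtain ⟨C₀, hC₀, hsub⟩ := hatt
  rw [← zeroLocus_minimalPrimes] at hC₀
  obtain ⟨p, hp, rfl⟩ := hC₀
  refine ⟨p, hp, ?_⟩
  rw [hsub]
  exact ConnDimSpec.dim_zeroLocus p

theorem exists_nat_subdim : ∃ n : ℕ, LocCoh.subdim (PrimeSpectrum S) = n := by
  obtain ⟨p, hp, h⟩ := exists_minimalPrime_subdim_eq S
  obtain ⟨n, hn⟩ := exists_nat_dim_quot p hp.1.1.ne_top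
  exact ⟨n, h.trans hn⟩

theorem exists_nat_connDim : ∃ n : ℕ, LocCoh.connDim (PrimeSpectrum S) = n := by
  obtain ⟨m, hm⟩ := exists_nat_subdim S
  have h1 := connDim_nonneg S
  have h2 : LocCoh.connDim (PrimeSpectrum S) ≤ (m : WithBot ℕ∞) :=
    hm ▸ ConnDim.connDim_le_subdim
  have h3 : LocCoh.connDim (PrimeSpectrum S) ≠ ⊥ := by
    intro h
    rw [h] at h1
    exact absurd h1 (by decide)
  obtain ⟨e, he⟩ := WithBot.ne_bot_iff_exists.1 h3
  have he' : e ≠ ⊤ := by
    intro h
    rw [h] at he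
    rw [← he] at h2
    exact absurd h2 (by
      rw [not_le]
      exact WithBot.coe_lt_coe.2 (ENat.coe_lt_top m))
  obtain ⟨n, hn⟩ := ENat.ne_top_iff_exists.1 he'
  exact ⟨n, by rw [← he, ← hn]; rfl⟩

end

variable (A : Type u) [CommRing A] [IsNoetherianRing A] [IsLocalRing A]
  [IsAdicComplete (maximalIdeal A) A]

theorem isConnected_zeroLocus_diff (I : Ideal A) (hI : I ≠ ⊤) (e : ℕ) (he : LocCoh.CdLE A I e)
    (Z : Set (PrimeSpectrum A)) (hZ : IsClosed Z) (hZI : Z ⊆ zeroLocus (I : Set A))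
    (hdim : ∀ p ∈ minimalPrimes A,
      topologicalKrullDim Z + ((e + 1 : ℕ) : WithBot ℕ∞) < ringKrullDim (A ⧸ p))
    (hc : ∀ Z' : Set (PrimeSpectrum A), IsClosed Z' → ¬ IsConnected Z'ᶜ →
      topologicalKrullDim Z + ((e : ℕ) : WithBot ℕ∞) < topologicalKrullDim Z') :
    IsConnected (zeroLocus (I : Set A) \ Z) := by
  haveI : Nontrivial (A ⧸ I) := Ideal.Quotient.nontrivial_iff.2 hI
  haveI : IsLocalRing (A ⧸ I) :=
    IsLocalRing.of_surjective' (Ideal.Quotient.mk I) Ideal.Quotient.mk_surjective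
  have hmain := bs_19_2_9_cd A I hI e he
  -- the numerical data
  obtain ⟨cA, hcA⟩ := exists_nat_connDim A
  obtain ⟨cI, hcI⟩ := exists_nat_connDim (A ⧸ I)
  obtain ⟨σ, hσ⟩ := exists_nat_subdim A
  have h1 : topologicalKrullDim Z + ((e : ℕ) : WithBot ℕ∞) < (cA : WithBot ℕ∞) := by
    obtain ⟨Z₀, hZ₀, hnc, hd⟩ := ConnDim.exists_closed_connDim_eq (T := PrimeSpectrum A)
    rw [← hcA, hd]
    exact hc Z₀ hZ₀ hnc
  have h2 : topologicalKrullDim Z + ((e + 1 : ℕ) : WithBot ℕ∞) < (σ : WithBot ℕ∞) := by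
    obtain ⟨p, hp, hsub⟩ := exists_minimalPrime_subdim_eq A
    rw [← hσ, hsub]
    exact hdim p hp
  rw [hcA, hcI, hσ] at hmain
  have hmain' : min (cA + 1) σ ≤ cI + e + 1 := by
    rcases le_total (cA + 1) σ with h | h
    · rw [min_eq_left h]
      have h' : ((cA : WithBot ℕ∞) + 1) ≤ (σ : WithBot ℕ∞) := by exact_mod_cast h
      rw [min_eq_left h'] at hmain
      exact_mod_cast hmain
    · rw [min_eq_right h]
      have h' : (σ : WithBot ℕ∞) ≤ ((cA : WithBot ℕ∞) + 1) := by exact_mod_cast h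
      rw [min_eq_right h'] at hmain
      exact_mod_cast hmain
  -- the dimension of `Z` is less than `c(A/I)`
  have hlt : topologicalKrullDim Z < (cI : WithBot ℕ∞) := by
    rcases eq_or_ne (topologicalKrullDim Z) ⊥ with hbot | hbot
    · rw [hbot]
      exact WithBot.bot_lt_coe _
    · obtain ⟨z, hz⟩ := WithBot.ne_bot_iff_exists.1 hbot
      have hz' : z ≠ ⊤ := by
        intro h
        rw [← hz, h] at h1
        exact absurd h1 (by
          rw [not_lt]
          change (cA : WithBot ℕ∞) ≤ ((⊤ : ℕ∞) : WithBot ℕ∞) + ((e : ℕ∞) : WithBot ℕ∞)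
          rw [← WithBot.coe_add, top_add]
          exact WithBot.coe_le_coe.2 le_top)
      obtain ⟨n, hn⟩ := ENat.ne_top_iff_exists.1 hz'
      have hZn : topologicalKrullDim Z = (n : WithBot ℕ∞) := by rw [← hz, ← hn]; rfl
      rw [hZn] at h1 h2 ⊢
      have h1' : n + e < cA := by exact_mod_cast h1
      have h2' : n + (e + 1) < σ := by exact_mod_cast h2
      have : n < cI := by
        rcases le_total (cA + 1) σ with h | h
        · rw [min_eq_left h] at hmain'; omega
        · rw [min_eq_right h] at hmain'; omega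
      exact_mod_cast this
  -- transfer to `Spec (A ⧸ I)`
  set φ : PrimeSpectrum (A ⧸ I) → PrimeSpectrum A := comap (Ideal.Quotient.mk I) with hφ
  have hemb := isClosedEmbedding_comap_of_surjective (A ⧸ I) (Ideal.Quotient.mk I)
    Ideal.Quotient.mk_surjective
  have hrange : Set.range φ = zeroLocus (I : Set A) := by
    rw [hφ, range_comap_of_surjective _ _ Ideal.Quotient.mk_surjective, Ideal.mk_ker]
  have hconn : IsConnected (φ ⁻¹' Z)ᶜ := by
    by_contra hnc
    have h3 : LocCoh.connDim (PrimeSpectrum (A ⧸ I)) ≤ topologicalKrullDim ↥(φ ⁻¹' Z) := by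
      unfold LocCoh.connDim
      exact iInf₂_le_of_le (φ ⁻¹' Z) ⟨hZ.preimage hemb.continuous, hnc⟩ le_rfl
    have h4 : topologicalKrullDim ↥(φ ⁻¹' Z) ≤ topologicalKrullDim ↥Z :=
      (hemb.isInducing.restrictPreimage Z).topologicalKrullDim_le
    rw [hcI] at h3
    exact absurd (lt_of_le_of_lt (h3.trans h4) hlt) (lt_irrefl _)
  have himg : φ '' (φ ⁻¹' Z)ᶜ = zeroLocus (I : Set A) \ Z := by
    rw [← Set.preimage_compl, Set.image_preimage_eq_inter_range, hrange, Set.inter_comm]
    rfl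
  rw [← himg]
  exact hconn.image φ hemb.continuous.continuousOn

end Groth.Agent.H58.Conn
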